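import Groth.Agent.Lib.JacBC22.ThetaClass
import Groth.Agent.Lib.JacBC22.DualProps
import Groth.Agent.Lib.RR22.Mumford
import Groth.Agent.Lib.RosTrace22.Lambda
import Groth.Agent.Lib.PtsDetect19.Basic

/-!
# The theta polarisation of a Jacobian with a base point is principal
-/

set_option autoImplicit false
set_option linter.style.haveILetI false
set_option linter.unusedSectionVars false
set_option backward.isDefEq.respectTransparency false
set_option backward.isDefEq.respectTransparency.types false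
set_option maxHeartbeats 4000000
set_option synthInstance.maxHeartbeats 200000

universe u

open CategoryTheory CategoryTheory.Limits AlgebraicGeometry MonoidalCategory CartesianMonoidalCategory MonObj

namespace Groth.Agent.JacForm22

open Groth.Agent Groth.Agent.Abel10 Groth.Agent.PicRep20 Groth.Agent.JacPts22 Groth.Agent.JacBC22
open scoped CategoryTheory.Obj

theorem picZero_invertible' {S : Scheme.{u}} {X : Scheme.{u}} {p : X ⟶ S} {T : Over S} {c : PicF.Cl (PicF.XT p T)}
    (h : AbDual.IsPicZeroCl p T c) : ∃ M, PicF.cl M = c ∧ PicF.IsInvertible M := by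
  obtain ⟨M, hM, hM'⟩ := AbDual21.picZero_invertible h
  exact ⟨M, hM, hM'⟩

/-- The theta polarisation of a Jacobian with a base point is principal. -/
theorem isIso_lambda_of_section (k : Type u) [Field k]
    (C : Scheme.{u}) [C.Over (Spec (CommRingCat.of k))]
    [IsProper (C ↘ Spec (CommRingCat.of k))] [Smooth (C ↘ Spec (CommRingCat.of k))] [GeometricallyConnected (C ↘ Spec (CommRingCat.of k))]
    (hdim : topologicalKrullDim ↥C = 1)
    (g : ℕ) (hg : Curv2.genus k C = g) (hg1 : 1 ≤ g)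
    (σ : Spec (CommRingCat.of k) ⟶ C) (hσ : σ ≫ (C ↘ Spec (CommRingCat.of k)) = 𝟙 _)
    (J : Over (Spec (CommRingCat.of k))) [GrpObj J] [IsCommMonObj J]
    (ψ : (ModFun.PicDeg (C ↘ Spec (CommRingCat.of k)) 0).Hom ⊤ J) (hJ : Jac.IsJacobian (C ↘ Spec (CommRingCat.of k)) ⊤ J ψ)
    (N : C.Modules) (hN : PicF.IsInvertible N) (hNdeg : Curv2.deg k C N 1 = (g : ℤ) - 1)
    (ΘJ : J.left.Modules) (hΘJ : Jac.IsThetaLB (C ↘ Spec (CommRingCat.of k)) 0 ψ N ΘJ)
    (Jt : Over (Spec (CommRingCat.of k))) [GrpObj Jt] [IsCommMonObj Jt]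
    (φ : AgPol.DualMap J Jt) (hJt : AbDual.IsDualAV Scheme.fppfPrecoverage J Jt φ)
    (lam : J ⟶ Jt) (hlam : AgPol.IsLambda J Jt φ ΘJ lam) :
    IsIso lam ∧ CohB1.IsAmple ΘJ := by
  classical
  letI : ∀ Y : Scheme.{u}, PicGrp.Law Y := fun Y => Groth.Agent.M2.law Y
  haveI : IsIntegral C := VB17.isIntegral_of_smooth (k := k) (X := C)
  haveI : GeometricallyIntegral (C ↘ Spec (CommRingCat.of k)) := PicSep22.geometricallyIntegral_of_smooth _
  obtain ⟨hJp, hJs, hJg⟩ := jacobian_props hdim σ hσ hJ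
  haveI := hJp; haveI := hJs; haveI := hJg
  haveI : IsSeparated J.hom := AbRigid.isSeparated_of_grpObj J
  haveI : GeometricallyConnected J.hom := (DualAV22.smooth_gc (A := J)).2
  let pC := C ↘ Spec (CommRingCat.of k)
  let K := AlgebraicClosure k
  let γb := βa k
  obtain ⟨n, rfl⟩ : ∃ n, g = n + 1 := ⟨g - 1, by omega⟩
  obtain ⟨i1, i2, i3, i4, i5, hdimK, hgK⟩ := setup γb hdim
  haveI := i1; haveI := i2; haveI := i3; haveI := i4; haveI := i5
  obtain ⟨-, -, -, ξ, hξ, hψ⟩ := exists_fine _ hdim σ hσ J ψ hJ.coarse.2.1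
  obtain ⟨ψK, hJK, hψK⟩ := exists_jacobian_bc γb hdim hdimK hξ hψ hJ
  obtain ⟨L, hL, hok⟩ := exists_ajFamily (σ := σ) hdim hσ
  let j : Over.mk (C ↘ Spec (CommRingCat.of k)) ⟶ J := ψ.app _ L trivial hok
  have hj : Jac.IsAbelJacobiAt (C ↘ Spec (CommRingCat.of k)) σ ψ j := ⟨trivial, L, hok, hL, rfl⟩
  obtain ⟨σK, hσK, jK, hfst, hjK, hflj⟩ := exists_abel_bc γb hdim hdimK hξ hψ hψK hJK hσ hj
  obtain ⟨hamp, hbil⟩ := theta_bc hdim hJ hσ hj hdimK hJK hσK hjK hflj hg (hgK.trans hg) hN
    (by rw [hNdeg]; push_cast; ring) hΘJ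
  obtain ⟨hJtp, hJts⟩ := dual_props hJt hamp hlam
  haveI := hJtp; haveI := hJts
  haveI : IsSeparated Jt.hom := AbRigid.isSeparated_of_grpObj Jt
  haveI : Surjective lam.left := DualAV22.surjective_lam hJt hamp hlam
  obtain ⟨NΛ, hNΛ, hs, rfl⟩ := hlam
  haveI hlamhom : IsMonHom (φ J (PicF.cl NΛ)) := AgPol22.isMonHom_phi hJt hΘJ.1 hNΛ hs
  set lam := φ J (PicF.cl NΛ) with hlamdef
  let c := PicGrp.cls ΘJ hΘJ.1
  have hNc : (PicGrp.cls NΛ hNΛ : PicLoc.PicSet (J ⊗ J).left) = RR22.mumC c :=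
    (RosTrace22.isLambdaSheaf_iff hΘJ.1 hNΛ).1 hs
  obtain ⟨ξP, hPP⟩ := RR22.exists_poincare (A := J) hJt
  obtain ⟨P, hPe, hP⟩ := picZero_invertible' hPP.1
  subst hPe
  have hΛP : PicF.cl NΛ = PicF.pullCl (J ◁ lam).left (PicF.cl P) :=
    RR22.cl_eq_pull_poincare (c := c) hJt (AgPol22.picZero_mum hΘJ.1 hNΛ hs) (congrArg Subtype.val hNc) hPP
  let cN : PicLoc.PicSet (PicF.XT pC J) := pc (AbDual.bcMap j J) (PicGrp.cls NΛ hNΛ)
  have hEq : ∀ z : 𝟙_ (Over (Spec (CommRingCat.of K))) ⟶ Red.bc γb J,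
      (iota hdimK (Red.bc γb J) ψK hJK z⁻¹ : PicLoc.PicSet (PicF.XT pC (Over.mk γb))) = pc (PicF.XTmap pC (flPt γb z)) cN := by
    intro z
    rw [map_inv, ← hbil z]
    show _ = pc (PicF.XTmap pC (flPt γb z)) (pc (AbDual.bcMap j J) (PicGrp.cls NΛ hNΛ))
    rw [hNc]
    -- the two readings of the class
    let pK := CK γb C ↘ Spec (CommRingCat.of K)
    let G : Over.mk pK ⟶ Red.bc γb J := toUnit _ ≫ z
    let F' : (Over.map γb).obj (Over.mk pK) ⟶ J := DiagGL.fl γb J jK
    let G' : (Over.map γb).obj (Over.mk pK) ⟶ J := DiagGL.fl γb J G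
    have hjmap : jK = (Over.pullback γb).map j := by
      haveI : IsSeparated (Red.bc γb J).hom := AbRigid.isSeparated_of_grpObj _
      haveI : IsProper (Over.mk pK).hom := i1
      haveI : Smooth (Over.mk pK).hom := i2
      haveI := AbRigid.geometricallyReduced_of_smooth (Over.mk pK).hom
      refine PtsDetect19.hom_ext_points K _ _ fun v => ?_
      let x : 𝟙_ (Over (Spec (CommRingCat.of K))) ⟶ Over.mk pK := Over.homMk v.left (by
        refine (Over.w v).trans ?_
        show Spec.map (CommRingCat.ofHom (algebraMap K K)) = 𝟙 _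
        simp)
      have h2 : x ≫ jK = x ≫ (Over.pullback γb).map j := by
        refine flPt_injective γb ((hflj x).trans (Over.OverMorphism.ext ?_))
        show (x.left ≫ pullback.fst pC γb) ≫ j.left = 𝟙 _ ≫ (x.left ≫ ((Over.pullback γb).map j).left) ≫ pullback.fst J.hom γb
        rw [Category.id_comp, Category.assoc, Category.assoc]
        exact congrArg (x.left ≫ ·) (pullback.lift_fst _ _ _).symm
      exact Over.OverMorphism.ext (congrArg (fun f : 𝟙_ (Over (Spec (CommRingCat.of K))) ⟶ Red.bc γb J => f.left) h2)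
    have hF : F'.left = pullback.fst pC γb ≫ j.left := by
      show jK.left ≫ pullback.fst J.hom γb = _
      rw [hjmap]
      exact pullback.lift_fst _ _ _
    have hG : G'.left = pullback.snd pC γb ≫ (flPt γb z).left := by
      show ((toUnit (Over.mk pK)).left ≫ z.left) ≫ pullback.fst J.hom γb = _ ≫ (𝟙 _ ≫ z.left ≫ pullback.fst J.hom γb)
      rw [Category.id_comp, Category.assoc, Over.toUnit_left]
      rfl
    have hpb : ∀ F : Over.mk pK ⟶ Red.bc γb J,
        AlgEquiv22.pb F (pc (Y' := (Red.bc γb J).left) (pullback.fst J.hom γb) c) = AlgEquiv22.pb (DiagGL.fl γb J F) c :=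
      fun F => pc_comp _ _ rfl c
    symm
    show pc (PicF.XTmap pC (flPt γb z)) (pc (AbDual.bcMap j J) (RR22.mumC c)) =
      Index22.bil (pc (Y' := (Red.bc γb J).left) (pullback.fst J.hom γb) c) jK G
    rw [Index22.bil, hpb, hpb, hpb, DiagGL.fl_mul]
    have hh : PicF.XTmap pC (flPt γb z) ≫ AbDual.bcMap j J = (lift F' G').left := by
      apply pullback.hom_ext
      · refine Eq.trans ?_ (congrArg (fun f : (Over.map γb).obj (Over.mk pK) ⟶ J => f.left) (lift_fst F' G')).symm
        rw [hF, Category.assoc, AbDual.bcMap, pullback.lift_fst, ← Category.assoc]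
        exact congrArg (· ≫ j.left) (HilbBC25.XTmap_fst pC _)
      · refine Eq.trans ?_ (congrArg (fun f : (Over.map γb).obj (Over.mk pK) ⟶ J => f.left) (lift_snd F' G')).symm
        rw [hG, Category.assoc, AbDual.bcMap, pullback.lift_snd, Category.comp_id]
        exact pullback.lift_snd _ _ _
    refine (pc_comp _ _ hh (RR22.mumC c)).trans ?_
    show AlgEquiv22.pb (lift F' G') (RR22.mumC c) = _
    rw [RR22.mumC, map_mul, map_mul, map_inv, map_inv, AlgEquiv22.pb_pb, AlgEquiv22.pb_pb, AlgEquiv22.pb_pb,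
      MonObj.comp_mul, lift_fst, lift_snd, mul_inv, ← _root_.mul_assoc]
  -- degree zero
  obtain ⟨LN, hLN, hLNc⟩ := PicGrp.exists_eq_cls cN
  have hd : ∀ t, PicTan20.degCl pC J t cN.1 = 0 := by
    intro t
    let b : Over.mk γb ⟶ J := flPt γb 1
    let t0 : (Over.mk γb).left := IsLocalRing.closedPoint K
    have h1 := hEq 1
    rw [inv_one, map_one] at h1
    have h2 : PicTan20.degCl pC J (b.left t0) cN.1 = 0 := by
      rw [← PicTan20.degCl_pull pC b t0 cN.2]
      refine (congrArg (fun c : PicLoc.PicSet (PicF.XT pC (Over.mk γb)) => PicTan20.degCl pC (Over.mk γb) t0 c.1) h1.symm).trans ?_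
      exact degCl_one (f := pC) hdim t0
    have hlc : IsLocallyConstant fun t => PicTan20.degMod pC J t LN :=
      PicTan20.isLocallyConstant_degMod pC (fun s => (fiber_dim pC hdim s).le) J hLN
    haveI : IsIntegral J.left := GeometricallyIntegral.isIntegral_of_subsingleton J.hom
    rw [hLNc, PicGrp.cls_val, PicTan20.degCl_cl] at h2 ⊢
    exact (hlc.apply_eq_of_preconnectedSpace t (b.left t0)).trans h2
  have hlf : classify hξ cN hd = (𝟙 J)⁻¹ := by
    haveI := AbRigid.geometricallyReduced_of_smooth J.hom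
    refine PtsDetect19.hom_ext_points K _ _ fun w => ?_
    obtain ⟨z, rfl⟩ := flPt_surjective γb w
    let b : Over.mk γb ⟶ J := flPt γb z
    show b ≫ classify hξ cN hd = b ≫ (𝟙 J)⁻¹
    rw [GrpObj.comp_inv, Category.comp_id]
    have hd' : ∀ t, PicTan20.degCl pC (Over.mk γb) t (pc (PicF.XTmap pC b) cN).1 = 0 := fun t =>
      (PicTan20.degCl_pull _ b t cN.2).trans (hd _)
    rw [← classify_pc hξ b _ hd hd']
    show _ = (flPt γb z)⁻¹
    rw [show (flPt γb z)⁻¹ = flPt γb z⁻¹ from
      (map_inv (MonoidHom.mk' (flPt γb) (flPt_mul γb) : (𝟙_ (Over (Spec (CommRingCat.of K))) ⟶ Red.bc γb J) →* (Over.mk γb ⟶ J)) z).symm]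
    exact (flPt_eq_classify γb hdim hdimK hξ hψK hJK z⁻¹ _ (hEq z) _).symm
  -- the polarisation is a monomorphism
  haveI : Mono lam := ⟨fun {T} x y hxy => by
    have hfam : ∀ x : T ⟶ J, pc (PicF.XTmap pC x) cN =
        pc (AbDual.bcMap j T) (pc (Y' := PicF.XT J.hom T) (J ◁ (x ≫ lam)).left (PicGrp.cls P hP)) := by
      intro x
      have e1 : pc (Y' := PicF.XT J.hom J) (J ◁ lam).left (PicGrp.cls P hP) = PicGrp.cls NΛ hNΛ := Subtype.ext hΛP.symm
      have hb : PicF.XTmap pC x ≫ AbDual.bcMap j J = AbDual.bcMap j T ≫ (J ◁ x).left := by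
        apply pullback.hom_ext <;> simp [PicF.XTmap, AbDual.bcMap, pullback.map]
        all_goals first
          | exact pullback.lift_snd _ _ _
          | exact pullback.lift_fst _ _ _
          | (erw [pullback.lift_fst_assoc]; done)
          | (erw [pullback.lift_snd_assoc]; done)
          | (rw [← Category.assoc]; refine congrArg (· ≫ _) ?_; exact pullback.lift_fst _ _ _)
      show pc (PicF.XTmap pC x) (pc (AbDual.bcMap j J) (PicGrp.cls NΛ hNΛ)) = _
      rw [← e1]
      refine (pc_comp _ _ hb _).trans ((pc_comp _ _ rfl _).symm.trans (congrArg (pc (AbDual.bcMap j T)) ?_))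
      exact pc_comp _ _ (by rw [← Over.comp_left, ← MonoidalCategory.whiskerLeft_comp]) _
    have hdx : ∀ x : T ⟶ J, ∀ t, PicTan20.degCl pC T t (pc (PicF.XTmap pC x) cN).1 = 0 := fun x t =>
      (PicTan20.degCl_pull _ x t cN.2).trans (hd _)
    have e : classify hξ (pc (PicF.XTmap pC x) cN) (hdx x) = classify hξ (pc (PicF.XTmap pC y) cN) (hdx y) :=
      classify_congr hξ (by rw [hfam, hfam, hxy]) _ _
    rw [classify_pc hξ x cN hd, classify_pc hξ y cN hd, hlf, GrpObj.comp_inv, GrpObj.comp_inv, Category.comp_id,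
      Category.comp_id, inv_inj] at e
    exact e⟩
  haveI : IsProper (lam.left ≫ Jt.hom) := by rw [Over.w lam]; infer_instance
  haveI : IsProper lam.left := IsProper.of_comp lam.left Jt.hom
  haveI : Mono lam.left := (Over.forget _).map_mono lam
  haveI : IsClosedImmersion lam.left := (IsClosedImmersion.iff_isProper_and_mono (f := lam.left)).mpr ⟨inferInstance, inferInstance⟩
  haveI : IsReduced Jt.left := OrbitTop19.isReduced_of_smooth Jt.hom
  haveI : IsIso lam.left := isIso_of_isClosedImmersion_of_surjective lam.left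
  haveI : IsIso ((Over.forget _).map lam) := ‹IsIso lam.left›
  exact ⟨isIso_of_reflects_iso lam (Over.forget _), hamp⟩

end Groth.Agent.JacForm22
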