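import Groth.Agent.Lib.JacForm22.Iso
import Groth.Agent.Lib.JacForm22.ThetaSec
import Groth.Agent.Lib.NodeBlow14.Centre
import Groth.Agent.Lib.CurveTwist13.Point
import Groth.Agent.Lib.PicRep20.FinField
import Groth.Agent.Lib.FinAffine12.Proj
import Groth.Agent.S10958

/-!
# Theta data of a curve over a finite separable extension carrying a rational point
-/

set_option autoImplicit false
set_option linter.style.haveILetI false
set_option linter.unusedSectionVars false
set_option backward.isDefEq.respectTransparency false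
set_option backward.isDefEq.respectTransparency.types false
set_option maxHeartbeats 2000000
set_option synthInstance.maxHeartbeats 200000

universe u

open CategoryTheory CategoryTheory.Limits AlgebraicGeometry TopologicalSpace Opposite MonoidalCategory
  CartesianMonoidalCategory MonObj
open scoped CategoryTheory.Obj

noncomputable section

namespace Groth.Agent.JacForm22

open Groth.Agent.Abel10 (pc pc_comp pc_id)
open Groth.Agent.PicRep20
open Groth.Agent.JacBC22 (fK up down up_down down_up up_map down_map up_proj degCl_up pc_map_map CK)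

noncomputable local instance instLawDescend (Y : Scheme.{u}) : PicGrp.Law Y := M2.law Y

variable {k : Type u} [Field k] {F : Type u} [Field F]
  (β : Spec (CommRingCat.of F) ⟶ Spec (CommRingCat.of k))
  {X : Scheme.{u}} [X.Over (Spec (CommRingCat.of k))]
  [IsProper (X ↘ Spec (CommRingCat.of k))] [Smooth (X ↘ Spec (CommRingCat.of k))]
  [GeometricallyConnected (X ↘ Spec (CommRingCat.of k))] [IsIntegral X]
  [GeometricallyIrreducible (X ↘ Spec (CommRingCat.of k))] (hdim : topologicalKrullDim X = 1)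

include hdim in
theorem setupF :
    IsProper (CK β X ↘ Spec (CommRingCat.of F)) ∧ Smooth (CK β X ↘ Spec (CommRingCat.of F)) ∧
      GeometricallyConnected (CK β X ↘ Spec (CommRingCat.of F)) ∧ IsIntegral (CK β X) ∧
      GeometricallyIrreducible (CK β X ↘ Spec (CommRingCat.of F)) ∧ topologicalKrullDim (CK β X) = 1 ∧
      Curv2.genus F (CK β X) = Curv2.genus k X := by
  let f := X ↘ Spec (CommRingCat.of k)
  have sq : IsPullback (pullback.fst f β) (CK β X ↘ Spec (CommRingCat.of F)) f β := IsPullback.of_hasPullback _ _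
  haveI h1 : IsProper (CK β X ↘ Spec (CommRingCat.of F)) := Abel10.isProper_fieldPt sq
  haveI h2 : Smooth (CK β X ↘ Spec (CommRingCat.of F)) := Abel10.smooth_fieldPt sq
  haveI h3 : GeometricallyConnected (CK β X ↘ Spec (CommRingCat.of F)) :=
    MorphismProperty.of_isPullback (P := @GeometricallyConnected) sq inferInstance
  haveI h5 : GeometricallyIrreducible (CK β X ↘ Spec (CommRingCat.of F)) :=
    MorphismProperty.of_isPullback (P := @GeometricallyIrreducible) sq inferInstance
  have h4 : IsIntegral (CK β X) := VB17.isIntegral_of_smooth (k := F) (X := CK β X)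
  refine ⟨h1, h2, h3, h4, h5, Abel10.topologicalKrullDim_fieldPt sq (fiber_dim _ hdim), ?_⟩
  letI : Algebra k F := (Spec.preimage β).hom.toAlgebra
  have hs : Spec.map (CommRingCat.ofHom (algebraMap k F)) = β := Spec.map_preimage _
  haveI : CompactSpace X := QuasiCompact.compactSpace_of_compactSpace f
  haveI : QuasiSeparatedSpace X := quasiSeparatedSpace_of_quasiSeparated f
  exact CurveCoh17.finrank_HH_of_isPullback (g := pullback.fst f β) (by rw [hs]; exact sq) 1

/-- The degree of a line bundle is unchanged by an extension of the ground field. -/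
theorem deg_ext {N : X.Modules} (hN : PicF.IsInvertible N) [IsProper (CK β X ↘ Spec (CommRingCat.of F))] :
    Curv2.deg F (CK β X) ((Scheme.Modules.pullback (pullback.fst (X ↘ Spec (CommRingCat.of k)) β)).obj N) 1 =
      Curv2.deg k X N 1 := by
  let f := X ↘ Spec (CommRingCat.of k)
  have sq : IsPullback (pullback.fst f β) (CK β X ↘ Spec (CommRingCat.of F)) f β := IsPullback.of_hasPullback _ _
  have h1 := Abel10.deg_fieldPt sq hN
  have hid : IsPullback (𝟙 X) (X ↘ Spec (CommRingCat.of k)) f (𝟙 _) :=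
    IsPullback.of_horiz_isIso ⟨by rw [Category.id_comp, Category.comp_id]⟩
  have h2 := Abel10.deg_fieldPt (K := k) hid hN
  rw [CurveCoh17.deg_iso ((Scheme.Modules.pullbackId X).app N), Functor.id_obj] at h2
  refine h1.trans (Eq.trans ?_ h2.symm)
  haveI : Subsingleton (Spec (CommRingCat.of k)) := inferInstanceAs (Subsingleton (PrimeSpectrum k))
  generalize hs : β (IsLocalRing.closedPoint F) = s₁
  generalize hs' : (𝟙 (Spec (CommRingCat.of k)) : Spec (CommRingCat.of k) ⟶ _) (IsLocalRing.closedPoint k) = s₂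
  obtain rfl : s₁ = s₂ := Subsingleton.elim _ _
  rfl

variable [IsFinite β] [Etale β] {J : Over (Spec (CommRingCat.of k))} [GrpObj J]
  {ψ : (ModFun.PicDeg (X ↘ Spec (CommRingCat.of k)) 0).Hom ⊤ J}
  [IsProper (CK β X ↘ Spec (CommRingCat.of F))] [Smooth (CK β X ↘ Spec (CommRingCat.of F))]
  [GeometricallyConnected (CK β X ↘ Spec (CommRingCat.of F))] [IsIntegral (CK β X)]
  [GeometricallyIrreducible (CK β X ↘ Spec (CommRingCat.of F))] (hdimK : topologicalKrullDim (CK β X) = 1)
  {σF : Spec (CommRingCat.of F) ⟶ CK β X} (hσF : σF ≫ (CK β X ↘ Spec (CommRingCat.of F)) = 𝟙 _)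

include hdim hdimK hσF in
/-- The base change of a Jacobian to a field with a rational point of the curve is a Jacobian. -/
theorem exists_jacobian_form (hJ : Jac.IsJacobian (X ↘ Spec (CommRingCat.of k)) ⊤ J ψ) :
    ∃ ψF : (ModFun.PicDeg (CK β X ↘ Spec (CommRingCat.of F)) 0).Hom ⊤ (Red.bc β J),
      Jac.IsJacobian (CK β X ↘ Spec (CommRingCat.of F)) ⊤ (Red.bc β J) ψF ∧
      ∀ T x (hx : (ModFun.PicDeg (CK β X ↘ Spec (CommRingCat.of F)) 0).ok T x),
        ∃ hd, fm β (ψF.app T x trivial hx) =
          Psi (X ↘ Spec (CommRingCat.of k)) hdim ψ (down β (X ↘ Spec (CommRingCat.of k)) T (famCls _ 0 hx)) hd := by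
  let f := X ↘ Spec (CommRingCat.of k)
  haveI : IsProper (fK β f) := ‹IsProper (CK β X ↘ Spec (CommRingCat.of F))›
  haveI : Smooth (fK β f) := ‹Smooth (CK β X ↘ Spec (CommRingCat.of F))›
  haveI : GeometricallyConnected (fK β f) := ‹GeometricallyConnected (CK β X ↘ Spec (CommRingCat.of F))›
  haveI : GeometricallyIrreducible (fK β f) := ‹GeometricallyIrreducible (CK β X ↘ Spec (CommRingCat.of F))›
  let g := CK β X ↘ Spec (CommRingCat.of F)
  obtain ⟨J', ξ', hp', hs', hi', hξ'⟩ := JacPts22.exists_isUnivClass g hdimK σF hσF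
  haveI := hp'
  haveI := hs'
  haveI := hi'
  letI : GrpObj J' := JacPts22.clsGrpObj hdimK σF hσF hξ'
  haveI : IrreducibleSpace J'.left := GeometricallyIrreducible.irreducibleSpace_of_subsingleton J'.hom
  obtain ⟨n, i, hi, -⟩ := S10958.result F J'
  haveI := hi
  have haff : ∀ E : Set J'.left, E.Finite → ∃ U : J'.left.Opens, IsAffineOpen U ∧ E ⊆ U := fun E hE =>
    FinAffine12.exists_affineOpen_of_finite_proj (CohB1.polyGrading n F) i E hE
  obtain ⟨ξK, hξK, hfm⟩ := exists_univ_bc β f hdim hdimK ψ (ξ' := ξ') hξ' hJ haff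
  let ψK : (ModFun.PicDeg g 0).Hom ⊤ (Red.bc β J) :=
    { app := fun T x _ hx => classify hξK (famCls g 0 hx) (degCl_famCls g hdimK 0 hx)
      natural := by
        intro T T' t x _ _ hx hx'
        have h := famCls_pull t hx hx'
        have hd' : ∀ s, PicTan20.degCl g T' s (pc (PicF.XTmap g t) (famCls g 0 hx)).1 = 0 :=
          h ▸ degCl_famCls g hdimK 0 hx'
        rw [← classify_pc hξK t _ (degCl_famCls g hdimK 0 hx) hd']
        congr 1
      resp := by
        intro T x y _ hx hy hr
        obtain ⟨m, hm⟩ := classify_spec hξK _ (degCl_famCls g hdimK 0 hx)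
        obtain ⟨m', hm'⟩ := (r_iff g 0 ((M2.isInvertible_iff_isFinLocFreeOfRank_one x).2 hx.1.2)
          ((M2.isInvertible_iff_isFinLocFreeOfRank_one y).2 hy.1.2)).1 hr
        refine eq_classify hξK _ _ _ (m := m * m') ?_
        change famCls g 0 hy = famCls g 0 hx * pc (PicF.XTproj g T) m' at hm'
        rw [hm', map_mul, ← _root_.mul_assoc, ← hm]
        rfl }
  obtain ⟨E, hE, hEc⟩ := PicGrp.exists_eq_cls ξK
  have hok : (ModFun.PicDeg g 0).ok (Red.bc β J) E := ok_of_class g hdimK 0 hE fun t => by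
    have := hξK.1 t
    rwa [hEc] at this
  have hba : ModFun.IsBestApprox ⊤ (ModFun.PicDeg g 0) (Red.bc β J) ψK := by
    intro N φ
    have hE1 : ψK.app (Red.bc β J) E trivial hok = 𝟙 (Red.bc β J) := by
      show classify hξK (famCls g 0 hok) (degCl_famCls g hdimK 0 hok) = 𝟙 _
      refine (eq_classify hξK (famCls g 0 hok) (degCl_famCls g hdimK 0 hok) (𝟙 _) (m := 1) ?_).symm
      rw [show famCls g 0 hok = _ from hEc.symm, HilbBC25.XTmap_id, pc_id, map_one, _root_.mul_one]
    refine ⟨φ.app _ E trivial hok, fun T x hT hx => ?_, fun h hh => ?_⟩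
    · let t := classify hξK (famCls g 0 hx) (degCl_famCls g hdimK 0 hx)
      obtain ⟨m, hm⟩ := classify_spec hξK (famCls g 0 hx) (degCl_famCls g hdimK 0 hx)
      have hg := ok_pull hdimK t hok
      show φ.app T x hT hx = t ≫ φ.app _ E trivial hok
      rw [← φ.natural t E trivial hT hok hg]
      refine (φ.resp _ _ hT hg hx ((r_iff g 0 ((M2.isInvertible_iff_isFinLocFreeOfRank_one _).2 hg.1.2)
        ((M2.isInvertible_iff_isFinLocFreeOfRank_one x).2 hx.1.2)).2 ⟨m, ?_⟩)).symm
      show famCls g 0 hx = famCls g 0 hg * _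
      rw [famCls_pull t hok hg, show famCls g 0 hok = _ from hEc.symm]
      exact hm
    · rw [hh _ E trivial hok, hE1, Category.id_comp]
  have hgeo : ModFun.GeomBij (ModFun.PicDeg g 0) (Red.bc β J) ψK := fun Ω _ _ t _ =>
    geomBij_degHom hdimK hξK Ω t (inferInstanceAs (IsAffine (Spec (CommRingCat.of Ω))))
  have hd : ∀ {T : Over (Spec (CommRingCat.of F))} (x : (PicF.XT g T).Modules) (hx : (ModFun.PicDeg g 0).ok T x),
      ∀ t, PicTan20.degCl f ((Over.map β).obj T) t (down β f T (famCls g 0 hx)).1 = 0 := fun x hx =>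
    deg_down β f hdim hdimK _ (degCl_famCls g hdimK 0 hx)
  refine ⟨ψK, ⟨⟨fun _ _ _ _ => trivial, hba, hgeo⟩, fun T hT L M N hL hM hN ⟨e⟩ => ?_⟩, fun T x hx => ⟨hd x hx, hfm T (famCls g 0 hx) (degCl_famCls g hdimK 0 hx)⟩⟩
  show classify hξK (famCls g 0 hN) (degCl_famCls g hdimK 0 hN) = classify hξK (famCls g 0 hL) (degCl_famCls g hdimK 0 hL) * classify hξK (famCls g 0 hM) (degCl_famCls g hdimK 0 hM)
  refine DiagGL.fl_injective β J ?_
  rw [DiagGL.fl_mul]
  show fm β _ = fm β _ * fm β _
  rw [hfm, hfm, hfm, ← psi_mul f hdim ψ hJ _ _ (hd L hL) (hd M hM) (JacPts22.deg_mul₀ hdim (hd L hL) (hd M hM))]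
  refine psi_congr f hdim ψ ?_ _ _
  rw [← map_mul]
  congr 1
  show PicGrp.cls N _ = PicGrp.cls L _ * PicGrp.cls M _
  rw [AlgEquiv22.cls_tensor]
  exact (PicGrp.cls_eq_cls_iff _ _).2 ⟨e⟩

end Groth.Agent.JacForm22
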