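import Groth.Agent.Lib.JacBC22.Univ
import Groth.Agent.Lib.JacPts22.Bridge

/-!
# The classifying map of a coarse Jacobian on classes
-/

set_option autoImplicit false
set_option linter.style.haveILetI false
set_option linter.unusedSectionVars false
set_option backward.isDefEq.respectTransparency false
set_option backward.isDefEq.respectTransparency.types false
set_option maxHeartbeats 1000000

universe u

open CategoryTheory CategoryTheory.Limits AlgebraicGeometry Opposite MonoidalCategory
  CartesianMonoidalCategory MonObj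

noncomputable section

namespace Groth.Agent.JacForm22

open Groth.Agent.Abel10 (pc pc_comp pc_id)
open Groth.Agent.PicRep20

noncomputable local instance instLawPsi (Y : Scheme.{u}) : PicGrp.Law Y := M2.law Y

variable {k : Type u} [Field k] {X : Scheme.{u}} (f : X ⟶ Spec (CommRingCat.of k)) [IsProper f] [Smooth f]
  [GeometricallyConnected f] [IsIntegral X] [GeometricallyIrreducible f] (hdim : topologicalKrullDim X = 1)
  {J : Over (Spec (CommRingCat.of k))} (ψ : (ModFun.PicDeg f 0).Hom ⊤ J)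

/-- A representative of a class. -/
abbrev rep {Y : Scheme.{u}} (c : PicLoc.PicSet Y) : Y.Modules := (PicGrp.exists_eq_cls c).choose

theorem rep_inv {Y : Scheme.{u}} (c : PicLoc.PicSet Y) : PicF.IsInvertible (rep c) :=
  (PicGrp.exists_eq_cls c).choose_spec.choose

theorem cls_rep {Y : Scheme.{u}} (c : PicLoc.PicSet Y) : PicGrp.cls (rep c) (rep_inv c) = c :=
  (PicGrp.exists_eq_cls c).choose_spec.choose_spec.symm

include hdim in
theorem ok_rep {T : Over (Spec (CommRingCat.of k))} (c : PicLoc.PicSet (PicF.XT f T))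
    (hc : ∀ t, PicTan20.degCl f T t c.1 = 0) : (ModFun.PicDeg f 0).ok T (rep c) :=
  ok_of_class f hdim 0 (rep_inv c) fun t => by
    rw [← PicGrp.cls_val (rep c) (rep_inv c), cls_rep]
    exact hc t

/-- The classifying map on classes of degree zero. -/
def Psi {T : Over (Spec (CommRingCat.of k))} (c : PicLoc.PicSet (PicF.XT f T))
    (hc : ∀ t, PicTan20.degCl f T t c.1 = 0) : T ⟶ J :=
  ψ.app T (rep c) trivial (ok_rep f hdim c hc)

theorem psi_congr {T : Over (Spec (CommRingCat.of k))} {c c' : PicLoc.PicSet (PicF.XT f T)} (h : c = c') (hc hc') :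
    Psi f hdim ψ c hc = Psi f hdim ψ c' hc' := by
  subst h
  rfl

theorem psi_app {T : Over (Spec (CommRingCat.of k))} (L : (PicF.XT f T).Modules) (hL : (ModFun.PicDeg f 0).ok T L)
    (c : PicLoc.PicSet (PicF.XT f T)) (hc : ∀ t, PicTan20.degCl f T t c.1 = 0) (h : famCls f 0 hL = c) :
    ψ.app T L trivial hL = Psi f hdim ψ c hc := by
  refine ψ.resp _ _ trivial hL (ok_rep f hdim c hc) ((r_iff f 0 ((M2.isInvertible_iff_isFinLocFreeOfRank_one L).2 hL.1.2)
    (rep_inv c)).2 ⟨1, ?_⟩)
  rw [map_one, _root_.mul_one, cls_rep]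
  exact h.symm

theorem psi_pc {T T' : Over (Spec (CommRingCat.of k))} (g : T' ⟶ T) (c : PicLoc.PicSet (PicF.XT f T))
    (hc : ∀ t, PicTan20.degCl f T t c.1 = 0) (hc' : ∀ t, PicTan20.degCl f T' t (pc (PicF.XTmap f g) c).1 = 0) :
    Psi f hdim ψ (pc (PicF.XTmap f g) c) hc' = g ≫ Psi f hdim ψ c hc := by
  have h1 := ok_rep f hdim c hc
  rw [← psi_app f hdim ψ _ (ok_pull hdim g h1) (pc (PicF.XTmap f g) c) hc' (by
    rw [famCls_pull g h1, show famCls f 0 h1 = c from cls_rep c])]
  exact ψ.natural g (rep c) trivial trivial h1 _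

theorem psi_mul [GrpObj J] (hJ : Jac.IsJacobian f ⊤ J ψ) {T : Over (Spec (CommRingCat.of k))}
    (a b : PicLoc.PicSet (PicF.XT f T)) (ha hb hab) :
    Psi f hdim ψ (a * b) hab = Psi f hdim ψ a ha * Psi f hdim ψ b hb := by
  refine hJ.mul T trivial _ _ _ (ok_rep f hdim a ha) (ok_rep f hdim b hb) (ok_rep f hdim (a * b) hab) ?_
  have h : PicGrp.cls (rep (a * b)) (rep_inv (a * b)) = PicGrp.cls (rep a) (rep_inv a) * PicGrp.cls (rep b) (rep_inv b) := by
    rw [cls_rep, cls_rep, cls_rep]
  exact (PicGrp.cls_eq_cls_iff _ _).1 (h.trans (AlgEquiv22.cls_tensor _ _))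

end Groth.Agent.JacForm22
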